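import Groth.Agent.Lib.RegRat32.Point
import Groth.Agent.Lib.Fibration13.Basic
import Groth.Agent.Lib.RelMin32.Birat
import Groth.Agent.Lib.RefHull26.Normal
import Mathlib

/-!
# Blowing up finitely many regular points of a surface keeps `H¹(O) = 0`
-/

set_option autoImplicit false
set_option linter.style.haveILetI false
set_option linter.unusedSectionVars false
set_option backward.isDefEq.respectTransparency false
set_option maxHeartbeats 1000000

universe u

open CategoryTheory CategoryTheory.Limits AlgebraicGeometry TopologicalSpace Opposite IsLocalRing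

noncomputable section

namespace Groth.Agent.BlowPts12

open PointBlowUp CohFound Groth.Agent.DivDesc12 Groth.Agent.RegRat

variable {Y Z : Scheme.{u}} [IsLocallyNoetherian Z] {J : Z.IdealSheafData}
variable (f : Y ⟶ Z) (hf : BlowUp.IsBlowUp f J) (hprop : IsProper f)
include hf hprop

/-- Two generators: the preimage of the affine open has `H¹(O) = 0`. -/
theorem hc_two {W : Z.Opens} (hW : IsAffineOpen W) {p q : Γ(Z, W)}
    (hpq : J.ideal ⟨W, hW⟩ = Ideal.span {p, q}) :
    Subsingleton (Hc ((abF Y).obj (Coh.structureModule Y)) 1 (f ⁻¹ᵁ W)) := by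
  classical
  let φ := hW.fromSpec
  let C := J.comap φ
  have hbl := BlowUp26.isBlowUp_flat_baseChange φ hf
  haveI : IsProper f := hprop
  haveI : IsProper (pullback.fst φ f) := MorphismProperty.pullback_fst _ _ inferInstance
  haveI : (pullback φ f).IsSeparated := ⟨by rw [← terminal.comp_from (pullback.fst φ f)]; infer_instance⟩
  have himg : φ ''ᵁ ⊤ = W := by rw [Scheme.Hom.image_top_eq_opensRange, IsAffineOpen.opensRange_fromSpec]
  have aux : ∀ V : Z.affineOpens, V = ⟨W, hW⟩ → ∃ p' q' : Γ(Z, V.1), J.ideal V = Ideal.span {p', q'} := by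
    rintro _ rfl
    exact ⟨p, q, hpq⟩
  obtain ⟨p', q', hpq'⟩ := aux ⟨φ ''ᵁ ⊤, (isAffineOpen_top _).image_of_isOpenImmersion φ⟩ (Subtype.ext himg)
  let e := φ.appIso ⊤
  let a : Fin 2 → Γ(Z, W) := ![(Scheme.ΓSpecIso Γ(Z, W)).hom (e.hom p'), (Scheme.ΓSpecIso Γ(Z, W)).hom (e.hom q')]
  have hC : C.ideal ⟨⊤, isAffineOpen_top _⟩ = Ideal.span (Set.range (gsec (A := Γ(Z, W)) a)) := by
    have hr : Set.range (gsec (A := Γ(Z, W)) a) = {e.hom.hom p', e.hom.hom q'} := by
      have hinv : ∀ c, (Scheme.ΓSpecIso (CommRingCat.of Γ(Z, W))).inv ((Scheme.ΓSpecIso Γ(Z, W)).hom c) = c :=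
        fun c => Iso.hom_inv_id_apply (Scheme.ΓSpecIso Γ(Z, W)) c
      have h0 : gsec (A := Γ(Z, W)) a 0 = e.hom.hom p' := hinv (e.hom p')
      have h1 : gsec (A := Γ(Z, W)) a 1 = e.hom.hom q' := hinv (e.hom q')
      ext v
      constructor
      · rintro ⟨i, rfl⟩
        fin_cases i
        · exact Or.inl h0
        · exact Or.inr h1
      · rintro (rfl | rfl)
        · exact ⟨0, h0⟩
        · exact ⟨1, h1⟩
    rw [hr, show ({e.hom.hom p', e.hom.hom q'} : Set _) = e.hom.hom '' {p', q'} from (Set.image_pair _ _ _).symm]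
    refine Eq.trans ?_ (Ideal.map_span e.hom.hom {p', q'})
    refine ((Scheme.IdealSheafData.ideal_comap_of_isOpenImmersion J φ ⟨⊤, isAffineOpen_top _⟩).trans
      (congrArg (Ideal.comap e.inv.hom) hpq')).trans ?_
    refine le_antisymm (fun v hv => ?_) (Ideal.map_le_iff_le_comap.2 fun v hv => ?_)
    · have h := Ideal.mem_map_of_mem e.hom.hom (show e.inv.hom v ∈ Ideal.span {p', q'} from hv)
      have hv' : e.hom.hom (e.inv.hom v) = v := Iso.inv_hom_id_apply e v
      rwa [hv'] at h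
    · rw [Ideal.mem_comap, Ideal.mem_comap]
      have hv' : e.inv.hom (e.hom.hom v) = v := Iso.hom_inv_id_apply e v
      rwa [hv']
  let Y' := pullback φ f
  let j : Y' ⟶ Y := pullback.snd φ f
  have hgg : Curv2.IsGloballyGenerated (Coh.structureModule Y') := by
    refine ⟨PUnit.{u + 1}, Sigma.desc fun _ => 𝟙 _, ?_⟩
    exact epi_of_epi_fac (Sigma.ι_desc (fun _ : PUnit.{u + 1} => 𝟙 (Coh.structureModule Y')) PUnit.unit)
  have h := BlowH1.subsingleton_HH_one (A := Γ(Z, W)) a hC hbl (isQCoh_structureModule Y') hgg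
  rw [subsingleton_HH_iff] at h
  obtain ⟨ε⟩ := nonempty_hc_abF_restrict j (Coh.structureModule Y) 1 ⊤
  have hj : j ''ᵁ ⊤ = f ⁻¹ᵁ W := by
    refine Opens.ext ?_
    rw [Scheme.Hom.image_top_eq_opensRange, Scheme.Hom.coe_opensRange, Scheme.Pullback.range_snd,
      IsAffineOpen.range_fromSpec]
    rfl
  rw [hj] at ε
  haveI := h
  haveI : Subsingleton (Hc ((abF Y').obj ((Coh.structureModule Y).restrict j)) 1 ⊤) :=
    (mpEquiv ((abF Y').mapIso (Scheme.Modules.restrictUnitIso j)) 1 ⊤).toEquiv.subsingleton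
  exact ε.symm.toEquiv.subsingleton


omit hf hprop

theorem vanishingIdeal_ideal_congr {A B : Closeds Z} (W : Z.affineOpens)
    (h : (A : Set Z) ∩ W.1 = (B : Set Z) ∩ W.1) :
    (Scheme.IdealSheafData.vanishingIdeal A).ideal W = (Scheme.IdealSheafData.vanishingIdeal B).ideal W := by
  show PrimeSpectrum.vanishingIdeal (W.2.fromSpec ⁻¹' A) = PrimeSpectrum.vanishingIdeal (W.2.fromSpec ⁻¹' B)
  refine congrArg _ ?_
  rw [← Set.preimage_inter_range, ← Set.preimage_inter_range (s := (B : Set Z)), IsAffineOpen.range_fromSpec, h]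

theorem vanishingIdeal_ideal_eq_top {A : Closeds Z} (W : Z.affineOpens) (h : (A : Set Z) ∩ W.1 = ∅) :
    (Scheme.IdealSheafData.vanishingIdeal A).ideal W = ⊤ := by
  show PrimeSpectrum.vanishingIdeal (W.2.fromSpec ⁻¹' A) = ⊤
  rw [← Set.preimage_inter_range, IsAffineOpen.range_fromSpec, h, Set.preimage_empty,
    PrimeSpectrum.vanishingIdeal_empty]

/-- The blow-up of a regular surface in a finite set of closed points keeps `H¹(O) = 0`. -/
theorem subsingleton_HH_one_points [IsIntegral Z] [IsIntegral Y] (hreg : ∀ x : Z, IsRegularLocalRing (Z.presheaf.stalk x))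
    {S : Set Z} (hfin : S.Finite) (hS : ∀ z ∈ S, IsClosed ({z} : Set Z))
    (hdim : ∀ z ∈ S, ringKrullDim (Z.presheaf.stalk z) = 2) (hSc : IsClosed S) (hη : genericPoint Z ∉ S)
    [IsProper f] (hb : BlowUp.IsBlowUp f (Scheme.IdealSheafData.vanishingIdeal ⟨S, hSc⟩))
    (hiso : IsIso (f ∣_ (⟨Sᶜ, hSc.isOpen_compl⟩ : Z.Opens)))
    (hZ : Subsingleton (Coh.HH Z (Coh.structureModule Z) 1)) :
    Subsingleton (Coh.HH Y (Coh.structureModule Y) 1) := by
  classical
  haveI := hiso
  obtain ⟨hgen, hbir⟩ := RelMin.birational_of_restrict f (U := (⟨Sᶜ, hSc.isOpen_compl⟩ : Z.Opens)) ⟨genericPoint Z, hη⟩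
  haveI := hbir
  have hspec : f.base (genericPoint Y) ⤳ genericPoint Z := specializes_of_eq hgen
  have hbij : ∀ T : Z.Opens, Function.Bijective (f.app T) := fun T =>
    Fibration13.bijective_app_of_birational f (RH26.isNormalScheme_of_regular hreg) hspec (by
      rw [CohIII.stalkToFunctionField, RingHom.coe_comp]
      haveI : IsIso (Z.presheaf.stalkSpecializes hspec) :=
        (Z.presheaf.stalkCongr (.of_eq hgen.symm)).isIso_hom
      exact (ConcreteCategory.bijective_of_isIso (f.stalkMap (genericPoint Y))).comp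
        (ConcreteCategory.bijective_of_isIso (Z.presheaf.stalkSpecializes hspec))) T
  let B : Set Z.Opens := {W | ∃ hW : IsAffineOpen W, ∃ p q : Γ(Z, W),
    (Scheme.IdealSheafData.vanishingIdeal ⟨S, hSc⟩).ideal ⟨W, hW⟩ = Ideal.span {p, q}}
  have hB : Opens.IsBasis B := by
    refine Opens.isBasis_iff_nbhd.2 fun {O x} hx => ?_
    by_cases hxS : x ∈ S
    · haveI := hreg x
      have hT : IsClosed (S \ {x}) := by
        rw [← Set.biUnion_of_singleton (S \ {x})]
        exact (hfin.subset Set.diff_subset).isClosed_biUnion fun z hz => hS z hz.1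
      have hbas := isBasis_goodOpens (hS x hxS) (hdim x hxS)
      obtain ⟨W, hWg, hxW, hWO⟩ := Opens.isBasis_iff_nbhd.1 hbas
        (show x ∈ O ⊓ ⟨(S \ {x})ᶜ, hT.isOpen_compl⟩ from ⟨hx, fun h => h.2 rfl⟩)
      obtain ⟨hW, hxn | ⟨p, q, hpq⟩⟩ := hWg
      · exact absurd hxW hxn
      refine ⟨W, ⟨hW, p, q, ?_⟩, hxW, fun w hw => (hWO hw).1⟩
      rw [← hpq]
      refine vanishingIdeal_ideal_congr ⟨W, hW⟩ (Set.ext fun w => ?_)
      constructor
      · rintro ⟨hwS, hwW⟩
        refine ⟨?_, hwW⟩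
        by_contra hne
        exact (hWO hwW).2 ⟨hwS, hne⟩
      · rintro ⟨hwx, hwW⟩
        have : w = x := hwx
        exact ⟨this ▸ hxS, hwW⟩
    · obtain ⟨W, hW, hxW, hWO⟩ := exists_isAffineOpen_mem_and_subset (X := Z) (x := x)
        (U := O ⊓ ⟨Sᶜ, hSc.isOpen_compl⟩) ⟨hx, hxS⟩
      refine ⟨W, ⟨hW, 1, 1, ?_⟩, hxW, fun w hw => (hWO hw).1⟩
      rw [vanishingIdeal_ideal_eq_top ⟨W, hW⟩ (Set.eq_empty_of_forall_notMem fun w hw => (hWO hw.2).2 hw.1),
        Set.pair_eq_singleton, Ideal.span_singleton_one]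
  refine subsingleton_HH_one_of_push f hbij B hB (fun W hW => ?_) hZ
  obtain ⟨hWa, p, q, hpq⟩ := hW
  exact hc_two f hb inferInstance hWa hpq

end Groth.Agent.BlowPts12
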